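import Cfsg.Agent.Spor.Chk

set_option autoImplicit false
set_option maxRecDepth 100000000
set_option Elab.async false
noncomputable section

namespace Cfsg.Agent.Spor.RuUa

def m0_0 : Nat := nat_lit 0x48
def m0_1 : Nat := nat_lit 0x8
def m0_2 : Nat := nat_lit 0x2101
def m0_3 : Nat := nat_lit 0x401
def m0_4 : Nat := nat_lit 0x100
def m0_5 : Nat := nat_lit 0x2
def m0_6 : Nat := nat_lit 0x88
def n0 : Net := Net.cons 8 m0_0 (Net.cons 4 m0_1 (Net.cons 2 m0_2 (Net.cons 1 m0_3 (Net.cons 2 m0_4 (Net.cons 4 m0_5 (Net.cons 8 m0_6 (Net.nil)))))))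

def m1_0 : Nat := nat_lit 0x44
def m1_1 : Nat := nat_lit 0xd0b
def m1_2 : Nat := nat_lit 0x3120
def m1_3 : Nat := nat_lit 0x114
def m1_4 : Nat := nat_lit 0x110
def m1_5 : Nat := nat_lit 0x102
def m1_6 : Nat := nat_lit 0x31
def n1 : Net := Net.cons 8 m1_0 (Net.cons 4 m1_1 (Net.cons 2 m1_2 (Net.cons 1 m1_3 (Net.cons 2 m1_4 (Net.cons 4 m1_5 (Net.cons 8 m1_6 (Net.nil)))))))

def m2_0 : Nat := nat_lit 0xd2
def m2_1 : Nat := nat_lit 0x50c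
def m2_2 : Nat := nat_lit 0x1130
def m2_3 : Nat := nat_lit 0x5154
def m2_4 : Nat := nat_lit 0x3
def m2_5 : Nat := nat_lit 0x4e
def n2 : Net := Net.cons 8 m2_0 (Net.cons 4 m2_1 (Net.cons 2 m2_2 (Net.cons 1 m2_3 (Net.cons 4 m2_4 (Net.cons 8 m2_5 (Net.nil))))))

def m3_0 : Nat := nat_lit 0x46
def m3_1 : Nat := nat_lit 0x202
def m3_2 : Nat := nat_lit 0x1120
def m3_3 : Nat := nat_lit 0x144
def m3_4 : Nat := nat_lit 0x102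
def m3_5 : Nat := nat_lit 0x308
def m3_6 : Nat := nat_lit 0x56
def n3 : Net := Net.cons 8 m3_0 (Net.cons 4 m3_1 (Net.cons 2 m3_2 (Net.cons 1 m3_3 (Net.cons 2 m3_4 (Net.cons 4 m3_5 (Net.cons 8 m3_6 (Net.nil)))))))

def m4_0 : Nat := nat_lit 0x4a
def m4_1 : Nat := nat_lit 0x4
def m4_2 : Nat := nat_lit 0x1322
def m4_3 : Nat := nat_lit 0x104
def m4_4 : Nat := nat_lit 0x104
def m4_5 : Nat := nat_lit 0x10
def n4 : Net := Net.cons 8 m4_0 (Net.cons 4 m4_1 (Net.cons 2 m4_2 (Net.cons 1 m4_3 (Net.cons 4 m4_4 (Net.cons 8 m4_5 (Net.nil))))))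

def m5_0 : Nat := nat_lit 0x4c
def m5_1 : Nat := nat_lit 0x201
def m5_2 : Nat := nat_lit 0x303
def m5_3 : Nat := nat_lit 0x1500
def m5_4 : Nat := nat_lit 0x201
def m5_5 : Nat := nat_lit 0xc
def n5 : Net := Net.cons 8 m5_0 (Net.cons 4 m5_1 (Net.cons 2 m5_2 (Net.cons 1 m5_3 (Net.cons 4 m5_4 (Net.cons 8 m5_5 (Net.nil))))))

def ip1 : List Nat := [0xd5dc, 0xdb10, 0x2228]
def l1 : Let := ⟨0, false, 0xffff, 0x22, [0xb0d4, 0xd3b8, 0x4c0, 0x3c40]⟩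

def ip2 : List Nat := [0x2186, 0xd22, 0x1504, 0xc240]
def l2 : Let := ⟨1, false, 0xffff, 0x1404, [0x3c82, 0xc224, 0x9920, 0xd560]⟩

def ip3 : List Nat := [0xc3d4, 0x2c64, 0x14c0]
def l3 : Let := ⟨2, false, 0xffff, 0x848, [0xe3f0, 0x1c64, 0x2840, 0x3c80]⟩

def ip4 : List Nat := [0x82a6, 0xe481, 0xc85c, 0x1300]
def l4 : Let := ⟨0, true, 0xffff, 0x0, [0xf832, 0x3b5d, 0x6400, 0xd480]⟩

def ip5 : List Nat := [0x5615, 0xa959, 0x63d8]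
def l5 : Let := ⟨1, true, 0xffff, 0x2080, [0xd604, 0x29c1, 0xe810, 0x6b18]⟩

def ip6 : List Nat := [0xa8c8, 0x7680, 0x9090]
def l6 : Let := ⟨2, true, 0xffff, 0xc310, [0x1ec8, 0xe290, 0x4480, 0xf400]⟩

def ip7 : List Nat := [0x1f8e, 0x3cc0, 0x44c4]
def l7 : Let := ⟨3, false, 0x7fcf, 0x0, [0x15cc, 0x360e, 0x68c0, 0x57c8]⟩

def ip8 : List Nat := [0x182d, 0x5c46, 0x2028]
def l8 : Let := ⟨3, true, 0x7c6f, 0x0, [0x506b, 0x640e, 0x1824, 0x5468]⟩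

def ip9 : List Nat := [0x144e, 0x12]
def l9 : Let := ⟨4, false, 0x145f, 0x0, [0x44a, 0x446, 0x1012, 0x18]⟩

def ip10 : List Nat := [0x4ab1, 0x5, 0x808]
def l10 : Let := ⟨4, true, 0x4abd, 0x0, [0x4a25, 0xa24, 0x818, 0x4088]⟩

def ip11 : List Nat := [0x6eca, 0x44]
def l11 : Let := ⟨5, false, 0x6ecf, 0x0, [0x404e, 0x4e0a, 0x2844, 0x46c8]⟩

def ip12 : List Nat := [0x2201, 0x1bd6, 0x6000]
def l12 : Let := ⟨5, true, 0x7bd7, 0x0, [0x6141, 0x1952, 0x6206, 0x53d0]⟩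

def NT : List Net := [n0, n1, n2, n3, n4, n5]
def LT : List Let := [⟨0, false, 0, 0, []⟩, l1, l2, l3, l4, l5, l6, l7, l8, l9, l10, l11, l12]
def T : Tab := ⟨NT, LT⟩
def EX : List (List Nat) := [[], [0], [2], [4], [1], [3], [5], [3, 1], [0, 2], [1, 3], [2, 0], [4, 4, 2], [3, 5, 5]]
def RL : List (List Nat) := [[3, 5, 5, 0, 2, 4, 4, 1], [3, 5, 5, 3, 5, 5, 2, 0, 4, 4, 2, 4, 4, 2, 1, 3], [4, 4, 2, 4, 4, 2, 4, 4, 2, 4, 4, 2], [2, 0, 3, 1, 3, 1, 1, 3, 3, 1, 3, 1], [3, 1, 3, 1, 3, 1, 3, 1], [4, 4, 2, 2, 0, 3, 1, 1, 3, 1, 3, 4, 4, 2, 1, 3, 3, 1], [1, 3, 1, 3, 1, 3, 1, 3], [1, 3, 3, 1, 1, 3, 3, 1, 1, 3, 3, 1, 1, 3, 3, 1], [5, 0, 5, 0], [2, 0, 2, 0, 3, 5, 5, 3, 5, 5, 5, 1, 5, 0], [0, 2, 2, 0, 3, 1, 3, 5, 5, 3, 4, 0, 5, 2], [0, 0, 0, 0], [1, 3, 3, 3, 3, 0], [3, 1, 3, 5, 5, 3, 4, 3, 4, 0]]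
def XL : List (List Nat) := []
def BW : List (List Nat) := [[3, 1], [1, 3], [4, 4, 2]]
def IV : Nat := 0xb0c090a070803020106050400
def L : List Nat := [1, 2, 3, 4, 5, 6, 7, 8, 9, 10, 11, 12]
def gs : List Nat := [1, 2, 3]
def base : List Nat := [7, 9, 11]

end Cfsg.Agent.Spor.RuUa
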